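import Mathlib

/-!
# `R[u,v]` over `R[u²,v²]` in characteristic two
-/

universe u

open MvPolynomial

namespace GrothLib.CharTwoPlane

variable {R : Type u} [CommRing R] [CharP R 2]

theorem two_eq_zero {n : ℕ} : (2 : MvPolynomial (Fin n) R) = 0 := by
  rw [← map_ofNat (C : R →+* MvPolynomial (Fin n) R) 2, CharTwo.two_eq_zero, map_zero]

theorem three_eq_one : (3 : MvPolynomial (Fin 2) R) = 1 := by
  linear_combination (two_eq_zero : (2 : MvPolynomial (Fin 2) R) = 0)

/-- `f(u,v) ↦ f(u²,v²)`. -/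
noncomputable abbrev ε : MvPolynomial (Fin 2) R →ₐ[R] MvPolynomial (Fin 2) R := expand 2

theorem ε_inj : Function.Injective (ε : MvPolynomial (Fin 2) R →ₐ[R] MvPolynomial (Fin 2) R) :=
  expand_injective two_pos

theorem D_ε (D : Derivation R (MvPolynomial (Fin 2) R) (MvPolynomial (Fin 2) R))
    (e : MvPolynomial (Fin 2) R) : D (ε e) = 0 := by
  induction e using MvPolynomial.induction_on with
  | C r => rw [ε, expand_C, ← algebraMap_eq, Derivation.map_algebraMap]
  | add a b ha hb => rw [map_add, map_add, ha, hb, add_zero]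
  | mul_X a i ha =>
    rw [map_mul, Derivation.leibniz, ha, smul_zero, add_zero, ε, expand_X, Derivation.leibniz_pow]
    simp only [smul_eq_mul, nsmul_eq_mul, Nat.cast_ofNat]
    rw [two_eq_zero]
    ring

/-- The standard decomposition. -/
noncomputable def dec (a b c d : MvPolynomial (Fin 2) R) : MvPolynomial (Fin 2) R :=
  ε a + ε b * X 0 + ε c * X 1 + ε d * (X 0 * X 1)

theorem exists_dec (p : MvPolynomial (Fin 2) R) : ∃ a b c d, p = dec a b c d := by
  induction p using MvPolynomial.induction_on with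
  | C r => exact ⟨C r, 0, 0, 0, by simp [dec]⟩
  | add p q hp hq =>
    obtain ⟨a, b, c, d, rfl⟩ := hp
    obtain ⟨a', b', c', d', rfl⟩ := hq
    exact ⟨a + a', b + b', c + c', d + d', by simp only [dec, map_add]; ring⟩
  | mul_X p i hp =>
    obtain ⟨a, b, c, d, rfl⟩ := hp
    fin_cases i
    · exact ⟨b * X 0, a, d * X 0, c, by simp [dec, ε]; ring⟩
    · exact ⟨c * X 1, d * X 1, a, b, by simp [dec, ε]; ring⟩

theorem dec_eq_zero {a b c d : MvPolynomial (Fin 2) R} (h : dec a b c d = 0) :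
    a = 0 ∧ b = 0 ∧ c = 0 ∧ d = 0 := by
  have h1 : ε c + ε d * X 0 = 0 := by
    have := congrArg (pderiv (R := R) (1 : Fin 2)) h
    simpa [dec, D_ε, pderiv_X, mul_comm] using this
  have hd : d = 0 := ε_inj (by
    have := congrArg (pderiv (R := R) (0 : Fin 2)) h1
    simpa [D_ε, pderiv_X] using this)
  have hc : c = 0 := ε_inj (by simpa [hd] using h1)
  have h0 : ε a + ε b * X 0 = 0 := by simpa [dec, hc, hd] using h
  have hb : b = 0 := ε_inj (by
    have := congrArg (pderiv (R := R) (0 : Fin 2)) h0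
    simpa [D_ε, pderiv_X] using this)
  exact ⟨ε_inj (by simpa [hb] using h0), hb, hc, hd⟩

theorem X_mul_cancel (i : Fin 2) {f g : MvPolynomial (Fin 2) R} (h : X i * f = X i * g) : f = g := by
  ext m
  have := congrArg (coeff (Finsupp.single i 1 + m)) h
  simpa using this

theorem X_sq_mul_cancel (i : Fin 2) {f g : MvPolynomial (Fin 2) R} (h : X i ^ 2 * f = X i ^ 2 * g) :
    f = g := by
  rw [sq, mul_assoc, mul_assoc] at h
  exact X_mul_cancel i (X_mul_cancel i h)

/-- `R[a,b] → R[a,b,c]`. -/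
noncomputable abbrev j : MvPolynomial (Fin 2) R →ₐ[R] MvPolynomial (Fin 3) R :=
  rename Fin.castSucc

theorem aeval_j (g : MvPolynomial (Fin 2) R) (h : MvPolynomial (Fin 2) R) :
    aeval ![X 0 ^ 2, X 1 ^ 2, g] (j h) = ε h := by
  rw [j, aeval_rename]
  have : (![X 0 ^ 2, X 1 ^ 2, g] ∘ Fin.castSucc : Fin 2 → MvPolynomial (Fin 2) R) =
      fun i => X i ^ 2 := funext fun i => by fin_cases i <;> rfl
  rw [this]
  exact congrArg (fun φ : MvPolynomial (Fin 2) R →ₐ[R] MvPolynomial (Fin 2) R => φ h)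
    (algHom_ext fun i => by simp [ε])

theorem mem_range_aeval (g a b : MvPolynomial (Fin 2) R) :
    ε a + ε b * g ∈ (aeval (R := R) ![X 0 ^ 2, X 1 ^ 2, g]).range :=
  ⟨j a + j b * X 2, by
    show aeval _ _ = _
    rw [map_add, map_mul, aeval_j, aeval_j, aeval_X]; rfl⟩

/-- The kernel of `a ↦ u², b ↦ v², c ↦ g` when `g² = h(u²,v²)`. -/
theorem ker_aeval_eq_span (g h : MvPolynomial (Fin 2) R) (hg : g ^ 2 = ε h)
    (hfree : ∀ a b, ε a + ε b * g = 0 → b = 0) :
    RingHom.ker (aeval (R := R) (S₁ := MvPolynomial (Fin 2) R) ![X 0 ^ 2, X 1 ^ 2, g]) =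
      Ideal.span {X 2 ^ 2 + j h} := by
  set G : MvPolynomial (Fin 3) R := X 2 ^ 2 + j h with hG
  have h2 : (aeval (R := R) ![X 0 ^ 2, X 1 ^ 2, g]) G = 0 := by
    rw [hG, map_add, map_pow, aeval_X, aeval_j]
    show g ^ 2 + ε h = 0
    rw [hg]
    linear_combination ε h * (two_eq_zero : (2 : MvPolynomial (Fin 2) R) = 0)
  refine le_antisymm (fun P hP => ?_) ?_
  · have red : ∀ P : MvPolynomial (Fin 3) R, ∃ a b, P - (j a + j b * X 2) ∈ Ideal.span {G} := by
      intro P
      induction P using MvPolynomial.induction_on with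
      | C r => exact ⟨C r, 0, by simp [j]⟩
      | add p q hp hq =>
        obtain ⟨a, b, hp⟩ := hp
        obtain ⟨a', b', hq⟩ := hq
        exact ⟨a + a', b + b', by convert add_mem hp hq using 1; simp only [map_add]; ring⟩
      | mul_X p i hp =>
        obtain ⟨a, b, hp⟩ := hp
        induction i using Fin.lastCases with
        | last =>
          refine ⟨-(h * b), a, ?_⟩
          convert add_mem (Ideal.mul_mem_right (X 2) _ hp)
            (Ideal.mul_mem_left _ (j b) (Ideal.mem_span_singleton_self G)) using 1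
          rw [hG, map_neg, map_mul, show (Fin.last 2) = (2 : Fin 3) from rfl]
          ring
        | cast i =>
          refine ⟨a * X i, b * X i, ?_⟩
          convert Ideal.mul_mem_right (X i.castSucc) _ hp using 1
          simp only [j, map_mul, rename_X]
          ring
    obtain ⟨a, b, hab⟩ := red P
    obtain ⟨q, hq⟩ := Ideal.mem_span_singleton'.1 hab
    have h0 : ε a + ε b * g = 0 := by
      have := congrArg (aeval (R := R) ![X 0 ^ 2, X 1 ^ 2, g]) hq
      rw [map_mul, h2, mul_zero, map_sub, map_add, map_mul, aeval_j, aeval_j, aeval_X,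
        RingHom.mem_ker.1 hP, zero_sub] at this
      exact neg_eq_zero.1 this.symm
    have hb := hfree a b h0
    have ha : a = 0 := ε_inj (by simpa [hb] using h0)
    simpa [ha, hb] using hab
  · rw [Ideal.span_le, Set.singleton_subset_iff]
    exact RingHom.mem_ker.2 h2

/-- A derivation killing `g` kills the algebra generated by `u²`, `v²`, `g`. -/
theorem D_eq_zero_of_mem_range (D : Derivation R (MvPolynomial (Fin 2) R) (MvPolynomial (Fin 2) R))
    (g : MvPolynomial (Fin 2) R) (hg : D g = 0) {p : MvPolynomial (Fin 2) R}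
    (hp : p ∈ (aeval (R := R) ![X 0 ^ 2, X 1 ^ 2, g]).range) : D p = 0 := by
  obtain ⟨P, rfl⟩ := hp
  show D (aeval _ P) = 0
  have hX : ∀ i : Fin 2, D (X i ^ 2) = 0 := fun i => by
    rw [← expand_X 2 i]; exact D_ε D (X i)
  induction P using MvPolynomial.induction_on with
  | C r => rw [aeval_C, Derivation.map_algebraMap]
  | add a b ha hb => rw [map_add, map_add, ha, hb, add_zero]
  | mul_X a i ha =>
    rw [map_mul, Derivation.leibniz, ha, smul_zero, add_zero, aeval_X]
    have h2 : D ((![X 0 ^ 2, X 1 ^ 2, g] : Fin 3 → MvPolynomial (Fin 2) R) i) = 0 := by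
      fin_cases i
      · exact hX 0
      · exact hX 1
      · exact hg
    rw [h2, smul_zero]

/-- Elements of `R[u², u³, v², v³]`. -/
theorem exists_dec_of_mem_adjoin {p : MvPolynomial (Fin 2) R}
    (hp : p ∈ Algebra.adjoin R
      ({X 0 ^ 2, X 0 ^ 3, X 1 ^ 2, X 1 ^ 3} : Set (MvPolynomial (Fin 2) R))) :
    ∃ a b c d, p = ε a + ε b * X 0 ^ 3 + ε c * X 1 ^ 3 + ε d * (X 0 ^ 3 * X 1 ^ 3) := by
  induction hp using Algebra.adjoin_induction with
  | mem x hx =>
    rcases hx with rfl | rfl | rfl | rfl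
    · exact ⟨X 0, 0, 0, 0, by simp [ε]⟩
    · exact ⟨0, 1, 0, 0, by simp [ε]⟩
    · exact ⟨X 1, 0, 0, 0, by simp [ε]⟩
    · exact ⟨0, 0, 1, 0, by simp [ε]⟩
  | algebraMap r => exact ⟨C r, 0, 0, 0, by simp [ε]⟩
  | add p q _ _ hp hq =>
    obtain ⟨a, b, c, d, rfl⟩ := hp
    obtain ⟨a', b', c', d', rfl⟩ := hq
    exact ⟨a + a', b + b', c + c', d + d', by simp only [map_add]; ring⟩
  | mul p q _ _ hp hq =>
    obtain ⟨a, b, c, d, rfl⟩ := hp
    obtain ⟨a', b', c', d', rfl⟩ := hq
    refine ⟨a * a' + b * b' * X 0 ^ 3 + c * c' * X 1 ^ 3 + d * d' * (X 0 ^ 3 * X 1 ^ 3),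
      a * b' + b * a' + (c * d' + d * c') * X 1 ^ 3,
      a * c' + c * a' + (b * d' + d * b') * X 0 ^ 3,
      a * d' + d * a' + b * c' + c * b', ?_⟩
    simp only [ε, map_add, map_mul, map_pow, expand_X]
    ring

end GrothLib.CharTwoPlane
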